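import Groth.Agent.Lib.BCPerf20.AffineBC
import Groth.Agent.Lib.RpushLocFree20.Basic
import Groth.Agent.Lib.HilbDesc10.Affine
import Groth.Agent.Lib.EulerConst10.Main
import Groth.Agent.Lib.RegSheaf.BaseChange
import Groth.Agent.Lib.RelVanish.Uniform
import Groth.Agent.Lib.CohPullLib.Edge

/-! # Direct images of high twists of relatively flat modules on projective space -/

set_option autoImplicit false
set_option maxHeartbeats 1000000
set_option linter.style.haveILetI false
set_option backward.isDefEq.respectTransparency false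
universe u

open CategoryTheory CategoryTheory.Limits AlgebraicGeometry HomologicalComplex

attribute [local instance] HasDerivedCategory.standard

noncomputable section

namespace GrothLib.TwistPush20

open GrothLib.OX GrothLib.BCPerf20

variable {X S : Scheme.{u}}

/-- An object with one vector bundle in degree zero. -/
def Bundle0 (K : DCoh.D X) : Prop :=
  (∀ q : ℤ, 0 < q → IsZero (DCoh.HD K q)) ∧ FlatMod.IsFinLocFree (DCoh.HD K 0)

theorem Bundle0.of_iso {K L : DCoh.D X} (h : Bundle0 K) (e : K ≅ L) : Bundle0 L :=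
  ⟨fun q hq => (h.1 q hq).of_iso ((DerivedCategory.homologyFunctor _ q).mapIso e.symm),
    DCoh.isFinLocFree_of_iso ((DerivedCategory.homologyFunctor _ 0).mapIso e) h.2⟩

theorem bundle0_of_local {K : DCoh.D X}
    (h : ∀ x : X, ∃ (U : Scheme.{u}) (j : U ⟶ X) (_ : IsOpenImmersion j), x ∈ Set.range j ∧ Bundle0 ((resD j).obj K)) :
    Bundle0 K := by
  refine ⟨fun q hq => isZero_of_local fun x => ?_, isFinLocFree_of_local fun x => ?_⟩
  · obtain ⟨U, j, hj, hx, h1, -⟩ := h x
    exact ⟨U, j, hj, hx, (h1 q hq).of_iso (HDResIso j K q).symm⟩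
  · obtain ⟨U, j, hj, hx, -, h2⟩ := h x
    exact ⟨U, j, hj, hx, DCoh.isFinLocFree_of_iso (HDResIso j K 0) h2⟩

/-- Pulling back a bundle in degree zero. -/
theorem bundle0_lpull {Y : Scheme.{u}} (g : Y ⟶ X) [DCoh.HasLpull g] {K : DCoh.D X} (hK : Bundle0 K) [K.IsGE 0] :
    Bundle0 ((DCoh.Lpull g).obj K) := by
  haveI : K.IsLE 0 := (DerivedCategory.isLE_iff K 0).2 hK.1
  obtain ⟨q⟩ := DerTrunc.nonempty_iso_single K 0
  haveI := TorBC25.isIso_lam 0 g (DCoh.HD K 0) (flat_of_isFinLocFree hK.2)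
  let M := (Scheme.Modules.pullback g).obj (DCoh.HD K 0)
  let e : (DCoh.Lpull g).obj K ≅ (DerivedCategory.singleFunctor Y.Modules 0).obj M :=
    (DCoh.Lpull g).mapIso (q ≪≫ (TorBC25.sDIso 0 X).app _) ≪≫ asIso (TorBC25.lam 0 g (DCoh.HD K 0)) ≪≫
      ((TorBC25.sDIso 0 Y).app M).symm
  have hb : Bundle0 ((DerivedCategory.singleFunctor Y.Modules 0).obj M) :=
    ⟨fun i hi => DerivedCategory.isZero_of_isLE _ 0 i hi,
      DCoh.isFinLocFree_of_iso ((DerivedCategory.singleFunctorCompHomologyFunctorIso Y.Modules 0).app M).symm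
        (isFinLocFree_pullback g hK.2)⟩
  exact hb.of_iso e.symm

/-- **High twists push forward to bundles**, over an affine base. -/
theorem exists_bundle0_affine {A : Type u} [CommRing A] (f : X ⟶ Spec (CommRingCat.of A)) [IsProper f]
    [LocallyOfFinitePresentation f] {r : ℕ} (ι : X ⟶ KRR.PY r (Spec (CommRingCat.of A))) [IsClosedImmersion ι]
    (hι : ι ≫ KRR.pr r (Spec (CommRingCat.of A)) = f) {L : X.Modules}
    (eι : L ≅ (Scheme.Modules.pullback ι).obj (Twist.twistOver r (Spec (CommRingCat.of A)) 1))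
    (F : X.Modules) (hF : CohB1.IsFP F) (hfl : FlatMod.IsFlatOver f F) :
    ∃ n₀ : ℕ, ∀ n, n₀ ≤ n → Bundle0 ((RR f).obj (DCoh.inD X (CohB1.tensorMod F (CohB1.tensorPow L n)))) := by
  obtain ⟨P, G, hG, hGfl, ⟨eG⟩⟩ := HilbDesc10.exists_flat_model f ι hι eι F hF hfl
  haveI := hG.1
  haveI : IsLocallyNoetherian P.X₀ := LocallyOfFiniteType.isLocallyNoetherian P.f₀
  haveI : LocallyOfFinitePresentation P.f₀ := inferInstance
  obtain ⟨n₀, hn₀⟩ := RelVanish.exists_isZero_RpushAb P.f₀ P.ample.1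
    (fun W hW => Ample.isAmple_restrict_of_le le_top (P.f₀.isCompact_preimage hW.isCompact)
      ((Ample.isAmple_restrict_top_iff P.L₀ rfl).mpr P.ample)) hG
  refine ⟨n₀, fun n hn => ?_⟩
  let N := CohB1.tensorMod G (CohB1.tensorPow P.L₀ n)
  have hGfp : CohB1.IsFP G := QCoh.isFinitePresentation_of_isFiniteType G hG.2
  have hinv : PicF.IsInvertible (CohB1.tensorPow P.L₀ n) := Ample.isInvertible_tensorPow P.ample.1 n
  have hNfp : CohB1.IsFP N := EulerConst10.isFP_tF hinv hGfp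
  haveI : N.IsQuasicoherent := FibPd.isQuasicoherent_of_isFP hNfp
  have hNfl : FlatMod.IsFlatOver P.f₀ N := EulerConst10.isFlatOver_tF P.f₀ hinv hGfl
  haveI : CohB1.IsFP N := hNfp
  have hNFT : CohB1.IsFT N := inferInstance
  have hcl : IsClosed (CohB1.support N) := by
    have : CohB1.support N = ((Fitt.sheafIdeal N 0).support : Set P.X₀) := by
      ext x
      exact (not_iff_not.2 (IsoOpen28.subsingleton_stalk_iff hNFT x)).trans not_not
    rw [this]
    exact (Fitt.sheafIdeal N 0).support.isClosed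
  haveI : HasInjectiveResolutions P.X₀.Modules := inferInstance
  let E := (RR P.f₀).obj (DCoh.inD P.X₀ N)
  have hp : DCoh.IsPerfect E := isPerfect_RR_inD P.f₀ N hNfp hNfl ⟨hcl, inferInstance⟩
  have hvan : ∀ q : ℤ, 0 < q → IsZero (DCoh.HD E q) := fun q hq => by
    obtain ⟨p, rfl⟩ : ∃ p : ℕ, q = p := ⟨q.toNat, by omega⟩
    obtain ⟨e⟩ := SiteDer.nonempty_homology_Rres_single (f := rmor P.f₀) N p
    exact (RegSheaf.isZero_Rpush_of_Van P.f₀ N p (hn₀ n hn p (by omega))).of_iso e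
  haveI : E.IsGE 0 := by
    haveI : (DCoh.inD P.X₀ N).IsGE 0 := inferInstanceAs (((DerivedCategory.singleFunctor P.X₀.Modules 0).obj N).IsGE 0)
    exact SiteDer.isGE_Rres (f := rmor P.f₀) (DCoh.inD P.X₀ N) 0
  have hb : Bundle0 E := ⟨hvan, RpushLocFree20.isFinLocFree_of_qc P.f₀ N ‹N.IsQuasicoherent› hNfl hp hvan⟩
  let φ := (Spec.preimage P.g).hom
  have hs : specHom φ = P.g := Spec.map_preimage P.g
  haveI : DCoh.HasLpull (specHom φ) := hasLpull _
  obtain ⟨bc⟩ := nonempty_lpull_RR_inD P.f₀ φ f P.g' (by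
    show IsPullback P.g' f P.f₀ (Spec.map (CommRingCat.ofHom φ))
    rw [show Spec.map (CommRingCat.ofHom φ) = P.g from hs]
    exact P.pb) N hNfl
  obtain ⟨eN⟩ := P.nonempty_pullback_twist eG n
  exact (bundle0_lpull (specHom φ) hb).of_iso
    (bc ≪≫ (RR f).mapIso ((DerivedCategory.singleFunctor X.Modules 0).mapIso eN))

/-- The global statement. -/
theorem exists_bundle0 [CompactSpace S] (r : ℕ) (F : (KRR.PY r S).Modules) (hF : CohB1.IsFP F)
    (hfl : FlatMod.IsFlatOver (KRR.pr r S) F) :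
    ∃ n₀ : ℕ, ∀ n, n₀ ≤ n → Bundle0 ((RR (KRR.pr r S)).obj (DCoh.inD _ (KRR.twF r S (n : ℤ) F))) := by
  obtain ⟨κ, _, V, hV, -, hcov⟩ := QCoh.exists_finite_affine_cover (U := (⊤ : S.Opens))
    (by simpa using isCompact_univ)
  haveI : IsProper (KRR.pr r S) := Chow.isProper_toBase r S
  haveI := Fintype.ofFinite κ
  haveI : F.IsQuasicoherent := FibPd.isQuasicoherent_of_isFP hF
  have key : ∀ k : κ, ∃ n₀ : ℕ, ∀ n, n₀ ≤ n →
      Bundle0 ((resD (hV k).fromSpec).obj ((RR (KRR.pr r S)).obj (DCoh.inD _ (KRR.twF r S (n : ℤ) F)))) := by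
    intro k
    let W := V k
    let a := (hV k).fromSpec
    let f := KRR.pr r S
    let j := (f ⁻¹ᵁ W).ι
    let fA := (f ∣_ W) ≫ (hV k).isoSpec.hom
    have hA : IsPullback j fA f a :=
      (isPullback_morphismRestrict f W).flip.of_iso (Iso.refl _) (Iso.refl _) (hV k).isoSpec (Iso.refl _)
        (by simp [j]) (by simp; rfl) (by simp [f]) (by simp [a]; rfl)
    let h2 := RegSheaf.isPullback_projSpaceMap (n := r) a
    let ι := (hA.isoIsPullback _ _ h2).hom
    have h1 : ι ≫ KRR.projSpaceMap r a = j := hA.isoIsPullback_hom_fst _ _ h2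
    have h3 : ι ≫ KRR.pr r (Spec Γ(S, W)) = fA := hA.isoIsPullback_hom_snd _ _ h2
    haveI : IsProper fA := MorphismProperty.of_isPullback hA inferInstance
    haveI : LocallyOfFinitePresentation f := inferInstance
    haveI : LocallyOfFinitePresentation fA := MorphismProperty.of_isPullback hA inferInstance
    let F' := (Scheme.Modules.pullback j).obj F
    let eL : (Scheme.Modules.pullback j).obj (Twist.twistOver r S 1) ≅
        (Scheme.Modules.pullback ι).obj (Twist.twistOver r (Spec Γ(S, W)) 1) :=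
      (Scheme.Modules.pullbackCongr h1).symm.app _ ≪≫ ((Scheme.Modules.pullbackComp ι (KRR.projSpaceMap r a)).app _).symm ≪≫
        (Scheme.Modules.pullback ι).mapIso ((Scheme.Modules.pullbackComp _ _).app _ ≪≫
          (Scheme.Modules.pullbackCongr (RegSheaf.projSpaceMap_fst a)).app _)
    obtain ⟨n₀, hn₀⟩ := exists_bundle0_affine (A := Γ(S, W)) fA ι h3 eL F'
      (FittSheaf.isFP_pullback j F hF) (FlatDesc.isFlatOver_baseChange hA F hfl)
    refine ⟨n₀, fun n hn => ?_⟩
    obtain ⟨c⟩ := nonempty_resD_fromSpec_RR f (hV k) (DCoh.inD _ (KRR.twF r S (n : ℤ) F))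
    obtain ⟨d⟩ := nonempty_resD_inD j (KRR.twF r S (n : ℤ) F)
    obtain ⟨t⟩ := RegSheaf.nonempty_tensorPow_twF (n := r) F n
    obtain ⟨p⟩ := EulerConst10.nonempty_pullback_tensorPows (t := 1) j F (fun _ => Twist.twistOver r S 1)
      (fun _ => RegSheaf.isInvertible_twistOver 1) (fun _ => n)
    exact (hn₀ n hn).of_iso ((RR fA).mapIso ((DerivedCategory.singleFunctor _ 0).mapIso
      (p.symm ≪≫ (Scheme.Modules.pullback j).mapIso t) ≪≫ d.symm) ≪≫ c.symm)
  choose n₀ hn₀ using key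
  refine ⟨∑ k, n₀ k, fun n hn => bundle0_of_local fun x => ?_⟩
  obtain ⟨k, hk⟩ := TopologicalSpace.Opens.mem_iSup.1 (hcov (show x ∈ (⊤ : S.Opens) from trivial))
  exact ⟨_, (hV k).fromSpec, inferInstance, by rw [(hV k).range_fromSpec]; exact hk,
    hn₀ k n (le_trans (Finset.single_le_sum (fun _ _ => Nat.zero_le _) (Finset.mem_univ k)) hn)⟩

end GrothLib.TwistPush20
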